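import Mathlib
import Groth.Prelude.Def_Curves
import Groth.Agent.H95.CiTrdeg
import Groth.Agent.H95.CiAlgClosed

/-!
# Tsen: a field of transcendence degree one over an algebraically closed field is `C₁`  (helper81)

Assembled from helper95's Tsen–Lang library.
-/

set_option autoImplicit false

namespace Groth.Agent.H81.GalNorm

universe u v

/-- a transcendence basis indexed by `Fin j` when the transcendence degree is `j` -/
theorem exists_fin_isTranscendenceBasis {F : Type u} {K : Type v} [Field F] [Field K] [Algebra F K]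
    (j : ℕ) (hj : Algebra.trdeg F K = j) : ∃ x : Fin j → K, IsTranscendenceBasis F x := by
  classical
  obtain ⟨ι, x, hx⟩ := exists_isTranscendenceBasis' F K
  have hcard : Cardinal.mk ι = (j : Cardinal) := by
    rw [hx.cardinalMk_eq_trdeg, hj]
  have hfin : Finite ι := by
    rw [← Cardinal.lt_aleph0_iff_finite, hcard]
    exact Cardinal.natCast_lt_aleph0
  have : Fintype ι := Fintype.ofFinite ι
  have hcard' : Fintype.card ι = j := by
    rw [Cardinal.mk_fintype] at hcard
    exact_mod_cast hcard
  let e : Fin j ≃ ι := (Fintype.equivFinOfCardEq hcard').symm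
  exact ⟨x ∘ e, hx.comp_equiv e⟩

/-- **Tsen's theorem**: transcendence degree one over an algebraically closed field gives `C₁`. -/
theorem isCr_one_of_trdeg_one (k : Type u) [Field k] [IsAlgClosed k] (K : Type v) [Field K]
    [Algebra k K] (htr : Algebra.trdeg k K = 1) : Curves.IsCr K 1 := by
  have hk0 : Curves.IsCi k 0 := by
    intro r n f d hhom hd hsum
    apply Groth.Agent.H95.CiAlgClosed.isCi_zero r n f d hhom hd
    simpa using hsum
  obtain ⟨x₀, hx₀⟩ := exists_fin_isTranscendenceBasis (F := k) (K := K) 1 (by exact_mod_cast htr)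
  have h3 := Groth.Agent.H95.CiTrdeg.isCi_add_of_isTranscendenceBasis k K 0 1 x₀ hx₀ hk0
  rw [Nat.zero_add] at h3
  intro n d f hf hd hlt
  obtain ⟨a, ha, hz⟩ := h3 1 n (fun _ => f) (fun _ => d) (fun _ => hf) (fun _ => hd)
    (by simpa using hlt)
  exact ⟨a, ha, hz 0⟩

end Groth.Agent.H81.GalNorm
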