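import Mathlib

/-!
# Hilbert's theorem 90 for cyclic extensions, in any universe  (helper81)

Mathlib's `groupCohomology.exists_div_of_norm_eq_one` is stated for fields in `Type`; this is the
classical proof by independence of characters, in all universes.
-/

set_option autoImplicit false

namespace Groth.Agent.H81.GalNorm

universe u v

variable {K : Type u} {L : Type v} [Field K] [Field L] [Algebra K L]

/-- partial norms `x · g x ⋯ g^(i-1) x` -/
noncomputable def pnorm (g : L ≃ₐ[K] L) (x : L) (i : ℕ) : L :=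
  ∏ j ∈ Finset.range i, (g ^ j) x

theorem pnorm_zero (g : L ≃ₐ[K] L) (x : L) : pnorm g x 0 = 1 := by
  simp [pnorm]

theorem pnorm_succ (g : L ≃ₐ[K] L) (x : L) (i : ℕ) : pnorm g x (i + 1) = x * g (pnorm g x i) := by
  unfold pnorm
  rw [Finset.prod_range_succ', map_prod, mul_comm]
  congr 1
  apply Finset.prod_congr rfl
  intro j _
  rw [pow_succ', AlgEquiv.mul_apply]

theorem pnorm_orderOf [FiniteDimensional K L] [IsGalois K L] (g : L ≃ₐ[K] L)
    (hg : ∀ σ : L ≃ₐ[K] L, σ ∈ Subgroup.zpowers g) (x : L) :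
    pnorm g x (orderOf g) = algebraMap K L (Algebra.norm K x) := by
  classical
  rw [Algebra.norm_eq_prod_automorphisms]
  unfold pnorm
  rw [← IsCyclic.image_range_orderOf hg, Finset.prod_image]
  intro i hi j hj hij
  exact pow_injOn_Iio_orderOf (by simpa using hi) (by simpa using hj) hij

/-- **Hilbert 90** for a finite cyclic Galois extension with generator `g`: an element of norm `1`
is of the form `y / g y`. -/
theorem exists_div_of_norm_eq_one [FiniteDimensional K L] [IsGalois K L] (g : L ≃ₐ[K] L)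
    (hg : ∀ σ : L ≃ₐ[K] L, σ ∈ Subgroup.zpowers g) {x : L} (hx : Algebra.norm K x = 1) :
    ∃ y : Lˣ, (y : L) / g (y : L) = x := by
  classical
  set n := orderOf g with hn
  have hnpos : 0 < n := orderOf_pos g
  have hx0 : x ≠ 0 := by
    intro h
    rw [h, Algebra.norm_zero] at hx
    exact zero_ne_one hx
  have hcn : pnorm g x n = 1 := by rw [pnorm_orderOf g hg, hx, map_one]
  -- independence of characters
  have hli : LinearIndependent L (fun i : Fin n => (((g ^ (i : ℕ) : L ≃ₐ[K] L) : L →* L) : L → L)) := by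
    have h1 := linearIndependent_monoidHom L L
    refine LinearIndependent.comp h1 (fun i : Fin n => ((g ^ (i : ℕ) : L ≃ₐ[K] L) : L →* L)) ?_
    intro i j hij
    have h2 : g ^ (i : ℕ) = g ^ (j : ℕ) := by
      apply AlgEquiv.ext
      intro t
      exact DFunLike.congr_fun hij t
    exact Fin.ext (pow_injOn_Iio_orderOf (Set.mem_Iio.mpr i.2) (Set.mem_Iio.mpr j.2) h2)
  obtain ⟨θ, hθ⟩ : ∃ θ : L, ∑ i : Fin n, pnorm g x i * (g ^ (i : ℕ)) θ ≠ 0 := by
    by_contra hcon
    push Not at hcon
    have h0 : ∑ i : Fin n, pnorm g x i • (((g ^ (i : ℕ) : L ≃ₐ[K] L) : L →* L) : L → L) = 0 := by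
      funext θ
      rw [Finset.sum_apply]
      simpa using hcon θ
    have := Fintype.linearIndependent_iff.mp hli (fun i => pnorm g x i) h0 ⟨0, hnpos⟩
    simp only [pnorm_zero] at this
    exact one_ne_zero this
  rw [← Finset.sum_range (fun i => pnorm g x i * (g ^ i) θ)] at hθ
  set y : L := ∑ i ∈ Finset.range n, pnorm g x i * (g ^ i) θ with hy
  have hgn : g ^ n = 1 := pow_orderOf_eq_one g
  have key : x * g y = y := by
    rw [hy, map_sum, Finset.mul_sum]
    have h1 : ∀ i ∈ Finset.range n, x * g (pnorm g x i * (g ^ i) θ) =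
        pnorm g x (i + 1) * (g ^ (i + 1)) θ := by
      intro i _
      rw [map_mul, ← mul_assoc, ← pnorm_succ, pow_succ', AlgEquiv.mul_apply]
    rw [Finset.sum_congr rfl h1]
    have h2 := Finset.sum_range_succ' (fun i => pnorm g x i * (g ^ i) θ) n
    have h3 := Finset.sum_range_succ (fun i => pnorm g x i * (g ^ i) θ) n
    simp only [pnorm_zero, pow_zero, AlgEquiv.one_apply, one_mul, hcn, hgn] at h2 h3
    have h4 : ∑ i ∈ Finset.range n, pnorm g x (i + 1) * (g ^ (i + 1)) θ + θ =
        ∑ i ∈ Finset.range n, pnorm g x i * (g ^ i) θ + θ := by rw [← h2, h3]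
    exact add_right_cancel h4
  have hgy : g y ≠ 0 := by
    intro h
    rw [h, mul_zero] at key
    exact hθ key.symm
  refine ⟨Units.mk0 y hθ, ?_⟩
  rw [Units.val_mk0, div_eq_iff hgy]
  exact key.symm

end Groth.Agent.H81.GalNorm
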