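import Mathlib
import Groth.Prelude.Def_Curves
import Groth.Agent.H95.CrExt

/-!
# Norms from finite extensions of `C₁` fields are surjective  (helper81)
-/

set_option autoImplicit false

open MvPolynomial

namespace Groth.Agent.H81.GalNorm

universe u v

variable {K : Type u} {L : Type v} [Field K] [Field L] [Algebra K L]

/-- the norm form of `L/K` in the first `n` of `n + 1` variables -/
noncomputable def normMat {n : ℕ} (b : Module.Basis (Fin n) K L) :
    Matrix (Fin n) (Fin n) (MvPolynomial (Fin (n + 1)) K) :=
  fun r c => ∑ i : Fin n, C (Algebra.leftMulMatrix b (b i) r c) * X (Fin.castSucc i)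

theorem normMat_isHomogeneous {n : ℕ} (b : Module.Basis (Fin n) K L) (r c : Fin n) :
    (normMat b r c).IsHomogeneous 1 := by
  unfold normMat
  apply IsHomogeneous.sum
  intro i _
  have := isHomogeneous_C_mul_X_pow (Algebra.leftMulMatrix b (b i) r c) (Fin.castSucc i) 1 (R := K)
  rwa [pow_one] at this

theorem eval_det_normMat {n : ℕ} (b : Module.Basis (Fin n) K L) (z : Fin (n + 1) → K) :
    eval z (normMat b).det = Algebra.norm K (∑ i : Fin n, z (Fin.castSucc i) • b i) := by
  rw [Algebra.norm_eq_matrix_det b, RingHom.map_det]
  congr 1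
  ext r c
  rw [RingHom.mapMatrix_apply, Matrix.map_apply, map_sum, Matrix.sum_apply]
  unfold normMat
  rw [map_sum]
  apply Finset.sum_congr rfl
  intro i _
  rw [map_mul, eval_C, eval_X, map_smul, Matrix.smul_apply, smul_eq_mul, mul_comm]

/-- Over a `C₁` field the norm of a finite extension is surjective. -/
theorem norm_surjective_of_isCr_one [FiniteDimensional K L] (hK : Curves.IsCr K 1) :
    Function.Surjective (Algebra.norm K : L → K) := by
  intro a
  set n := Module.finrank K L with hn
  have hnpos : 0 < n := Module.finrank_pos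
  let b : Module.Basis (Fin n) K L := Module.finBasis K L
  let f : MvPolynomial (Fin (n + 1)) K := (normMat b).det - C a * X (Fin.last n) ^ n
  have hf : f.IsHomogeneous n := by
    apply IsHomogeneous.sub
    · have := Groth.Agent.H95.CrExt.det_isHomogeneous (normMat b) (normMat_isHomogeneous b)
      rwa [mul_one] at this
    · exact isHomogeneous_C_mul_X_pow a (Fin.last n) n
  obtain ⟨z, hz0, hz⟩ := hK (n + 1) n f hf hnpos (by rw [pow_one]; exact Nat.lt_succ_self n)
  have hz' : Algebra.norm K (∑ i : Fin n, z (Fin.castSucc i) • b i) = a * z (Fin.last n) ^ n := by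
    have : eval z f = 0 := hz
    simp only [f, map_sub, map_mul, map_pow, eval_C, eval_X, eval_det_normMat] at this
    exact sub_eq_zero.mp this
  set x : L := ∑ i : Fin n, z (Fin.castSucc i) • b i with hx
  set y : K := z (Fin.last n) with hy
  have hy0 : y ≠ 0 := by
    intro h0
    rw [h0, zero_pow hnpos.ne', mul_zero] at hz'
    have hx0 : x = 0 := Algebra.norm_eq_zero_iff.mp hz'
    apply hz0
    funext j
    refine Fin.lastCases ?_ (fun i => ?_) j
    · exact h0
    · have := (Fintype.linearIndependent_iff.mp b.linearIndependent) (fun i => z (Fin.castSucc i)) hx0 i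
      simpa using this
  refine ⟨x / algebraMap K L y, ?_⟩
  rw [div_eq_mul_inv, map_mul, Algebra.norm_inv, hz', Algebra.norm_algebraMap, ← hn]
  field_simp

end Groth.Agent.H81.GalNorm
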