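import Mathlib
import Groth.Prelude.Def_Curves
import Groth.Agent.H95.CrExt
import Groth.Agent.H81.GalNorm.NormSurj
import Groth.Agent.H81.GalNorm.Hilbert90

/-!
# Vanishing of `Ĥ⁻¹(Gal(L/K), Lˣ)` for finite Galois extensions of `C₁` fields  (helper81)

For `K` a `C₁` field and `L/K` finite Galois, every element of `Lˣ` of norm `1` is a product of
elements `w / g w`.  Proof: cyclic case by Hilbert 90, extension along a normal (central cyclic)
subgroup for `p`-groups using surjectivity of norms, and a Sylow restriction–corestriction argument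
in general.
-/

set_option autoImplicit false

open IntermediateField

namespace Groth.Agent.H81.GalNorm

universe u

section IG

variable (K : Type*) (L : Type*) [Field K] [Field L] [Algebra K L]

/-- the subgroup of `Lˣ` generated by the `w / g w`, `g ∈ Gal(L/K)` -/
def IG : Subgroup Lˣ :=
  Subgroup.closure {v : Lˣ | ∃ (w : Lˣ) (g : L ≃ₐ[K] L), (v : L) = (w : L) / g (w : L)}

/-- every unit of norm one lies in `IG` -/
def T : Prop := ∀ u : Lˣ, Algebra.norm K (u : L) = 1 → u ∈ IG K L

variable {K L}

theorem div_mem_IG (w : Lˣ) (g : L ≃ₐ[K] L) : w / Units.map (g : L →* L) w ∈ IG K L := by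
  apply Subgroup.subset_closure
  refine ⟨w, g, ?_⟩
  rw [Units.val_div_eq_div_val]
  rfl

theorem norm_eq_one_of_mem_IG [FiniteDimensional K L] {u : Lˣ} (hu : u ∈ IG K L) :
    Algebra.norm K (u : L) = 1 := by
  unfold IG at hu
  induction hu using Subgroup.closure_induction with
  | mem v hv =>
    obtain ⟨w, g, h⟩ := hv
    rw [h, div_eq_mul_inv, map_mul, Algebra.norm_inv, Algebra.norm_eq_of_algEquiv]
    apply mul_inv_cancel₀
    rw [Algebra.norm_ne_zero_iff]
    exact w.ne_zero
  | one => simp
  | mul x y _ _ hx hy => rw [Units.val_mul, map_mul, hx, hy, one_mul]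
  | inv x _ hx => rw [Units.val_inv_eq_inv_val, Algebra.norm_inv, hx, inv_one]

theorem IG_le (M : IntermediateField K L) : IG M L ≤ IG K L := by
  unfold IG
  apply Subgroup.closure_mono
  rintro v ⟨w, g, h⟩
  exact ⟨w, g.restrictScalars K, h⟩

/-- Hilbert 90: the cyclic case -/
theorem T_of_isCyclic [FiniteDimensional K L] [IsGalois K L] [IsCyclic (L ≃ₐ[K] L)] : T K L := by
  intro u hu
  obtain ⟨g, hg⟩ := IsCyclic.exists_generator (α := L ≃ₐ[K] L)
  obtain ⟨y, hy⟩ := exists_div_of_norm_eq_one g hg hu
  have : u = y / Units.map (g : L →* L) y := by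
    ext
    rw [Units.val_div_eq_div_val, ← hy]
    rfl
  rw [this]
  exact div_mem_IG y g

end IG

section Sylow

variable {K : Type*} {L : Type*} [Field K] [Field L] [Algebra K L]
  [FiniteDimensional K L] [IsGalois K L]

/-- restriction–corestriction: if the statement holds for `L / L^P` then `u ^ [G : P]` lies in `IG`
for every `u` of norm one -/
theorem pow_index_mem_IG (P : Subgroup (L ≃ₐ[K] L)) (hT : T (fixedField P) L) {u : Lˣ}
    (hu : Algebra.norm K (u : L) = 1) : u ^ P.index ∈ IG K L := by
  classical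
  obtain ⟨S, hS, -⟩ := Subgroup.exists_isComplement_right P 1
  have : Fintype S := Fintype.ofFinite S
  have : Fintype P := Fintype.ofFinite P
  have : Fintype (P : Set (L ≃ₐ[K] L)) := Fintype.ofFinite _
  set v : Lˣ := ∏ s : S, Units.map ((s : L ≃ₐ[K] L) : L →* L) u with hv
  have hvval : (v : L) = ∏ s : S, (s : L ≃ₐ[K] L) (u : L) := by
    rw [hv, Units.coe_prod]
    rfl
  -- the norm of `v` down to the fixed field is `1`
  have hnorm : Algebra.norm (fixedField P) (v : L) = 1 := by
    apply (algebraMap (fixedField P) L).injective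
    rw [Algebra.norm_eq_prod_automorphisms, map_one]
    have h1 : ∏ τ : L ≃ₐ[fixedField P] L, τ (v : L) = ∏ h : P, (h : L ≃ₐ[K] L) (v : L) := by
      symm
      apply Fintype.prod_equiv (subgroupEquivAlgEquiv P).toEquiv
      intro h
      rfl
    rw [h1]
    have h2 : ∀ h : P, (h : L ≃ₐ[K] L) (v : L) =
        ∏ s : S, ((h : L ≃ₐ[K] L) * (s : L ≃ₐ[K] L)) (u : L) := by
      intro h
      rw [hvval, map_prod]
      rfl
    simp_rw [h2]
    have h3 : ∏ σ : L ≃ₐ[K] L, σ (u : L) = 1 := by
      rw [← Algebra.norm_eq_prod_automorphisms, hu, map_one]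
    rw [← h3]
    have hbij : Function.Bijective
        (fun x : ↥(P : Set (L ≃ₐ[K] L)) × ↥S => (x.1.1 * x.2.1 : L ≃ₐ[K] L)) := hS
    rw [← Fintype.prod_equiv (Equiv.ofBijective _ hbij)
      (fun x : ↥(P : Set (L ≃ₐ[K] L)) × ↥S => ((x.1 : L ≃ₐ[K] L) * (x.2 : L ≃ₐ[K] L)) (u : L))
      (fun σ => σ (u : L)) (fun x => rfl)]
    rw [Fintype.prod_prod_type]
    rfl
  have hvIG : v ∈ IG K L := IG_le (fixedField P) (hT v hnorm)
  -- `u ^ |S| = v * ∏ (u / s u)`
  have hprod : u ^ Fintype.card S = v * ∏ s : S, (u / Units.map ((s : L ≃ₐ[K] L) : L →* L) u) := by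
    rw [hv, ← Finset.prod_mul_distrib]
    simp
  have hidx : P.index = Fintype.card S := by
    rw [← hS.card_right, Nat.card_eq_fintype_card]
  rw [hidx, hprod]
  apply Subgroup.mul_mem _ hvIG
  apply Subgroup.prod_mem
  intro s _
  exact div_mem_IG u (s : L ≃ₐ[K] L)

end Sylow

section Extension

variable {K : Type*} {L : Type*} [Field K] [Field L] [Algebra K L]
  [FiniteDimensional K L] [IsGalois K L]

omit [FiniteDimensional K L] [IsGalois K L] in
/-- the norm to a normal intermediate field is equivariant -/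
theorem norm_apply_eq (M : IntermediateField K L) [Normal K M] (σ : L ≃ₐ[K] L) (x : L) :
    Algebra.norm M (σ x) = (σ.restrictNormal M) (Algebra.norm M x) := by
  have he : RingHom.comp (algebraMap M L) ((σ.restrictNormal M : M ≃ₐ[K] M) : M ≃+* M) =
      RingHom.comp ((σ : L ≃+* L) : L →+* L) (algebraMap M L) := by
    ext m
    exact σ.restrictNormal_commutes M m
  have := Algebra.norm_eq_of_equiv_equiv ((σ.restrictNormal M : M ≃ₐ[K] M) : M ≃+* M)
    (σ : L ≃+* L) he x
  rw [this]
  simp

/-- extension along a normal subgroup -/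
theorem T_of_normal (C : Subgroup (L ≃ₐ[K] L)) [C.Normal]
    (h1 : T (fixedField C) L) (h2 : T K (fixedField C))
    (hsurj : Function.Surjective (Algebra.norm (fixedField C) : L → fixedField C)) : T K L := by
  set M := fixedField C with hM
  have hlift : ∀ v' : Mˣ, v' ∈ IG K M →
      ∃ u' : Lˣ, u' ∈ IG K L ∧ Algebra.norm M (u' : L) = (v' : M) := by
    intro v' hv'
    unfold IG at hv'
    induction hv' using Subgroup.closure_induction with
    | mem v hv =>
      obtain ⟨w, σ, h⟩ := hv
      obtain ⟨w', hw'⟩ := hsurj (w : M)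
      have hw'0 : w' ≠ 0 := by
        intro h0
        rw [h0, Algebra.norm_zero] at hw'
        exact w.ne_zero hw'.symm
      obtain ⟨σ', hσ'⟩ := AlgEquiv.restrictNormalHom_surjective L σ
      refine ⟨Units.mk0 w' hw'0 / Units.map (σ' : L →* L) (Units.mk0 w' hw'0),
        div_mem_IG _ σ', ?_⟩
      rw [Units.val_div_eq_div_val, div_eq_mul_inv, map_mul, Algebra.norm_inv, h]
      have : Algebra.norm M ((Units.map (σ' : L →* L) (Units.mk0 w' hw'0) : Lˣ) : L) =
          σ (w : M) := by
        show Algebra.norm M (σ' w') = _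
        rw [norm_apply_eq M σ' w', hw', ← hσ']
        rfl
      rw [this, Units.val_mk0, hw', div_eq_mul_inv]
    | one => exact ⟨1, one_mem _, by simp⟩
    | mul x y _ _ hx hy =>
      obtain ⟨a, ha, ha'⟩ := hx
      obtain ⟨b, hb, hb'⟩ := hy
      exact ⟨a * b, mul_mem ha hb, by rw [Units.val_mul, map_mul, ha', hb', Units.val_mul]⟩
    | inv x _ hx =>
      obtain ⟨a, ha, ha'⟩ := hx
      exact ⟨a⁻¹, inv_mem ha, by
        rw [Units.val_inv_eq_inv_val, Algebra.norm_inv, ha', Units.val_inv_eq_inv_val]⟩
  intro u hu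
  have hv0 : Algebra.norm M (u : L) ≠ 0 := by
    rw [Algebra.norm_ne_zero_iff]
    exact u.ne_zero
  have hvn : Algebra.norm K ((Units.mk0 _ hv0 : Mˣ) : M) = 1 := by
    rw [Units.val_mk0, Algebra.norm_norm, hu]
  obtain ⟨u', hu', hu'n⟩ := hlift _ (h2 _ hvn)
  rw [Units.val_mk0] at hu'n
  have h3 : Algebra.norm M ((u / u' : Lˣ) : L) = 1 := by
    rw [Units.val_div_eq_div_val, div_eq_mul_inv, map_mul, Algebra.norm_inv, hu'n]
    exact mul_inv_cancel₀ hv0
  have h4 : u / u' ∈ IG K L := IG_le M (h1 _ h3)
  have : u = (u / u') * u' := by simp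
  rw [this]
  exact mul_mem h4 hu'

end Extension

/-- **Main theorem**: over a `C₁` field, a unit of norm one in a finite Galois extension is a
product of elements `w / g w`. -/
theorem T_of_isCr_one : ∀ (d : ℕ) (K L : Type u) [Field K] [Field L] [Algebra K L]
    [FiniteDimensional K L] [IsGalois K L], Curves.IsCr K 1 → Module.finrank K L = d → T K L := by
  intro d
  induction d using Nat.strong_induction_on with
  | _ d ih =>
    intro K L _ _ _ _ _ hK hd
    have hcard : Nat.card (L ≃ₐ[K] L) = d := by rw [IsGalois.card_aut_eq_finrank, hd]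
    by_cases hsub : Subsingleton (L ≃ₐ[K] L)
    · have : IsCyclic (L ≃ₐ[K] L) := isCyclic_of_subsingleton
      exact T_of_isCyclic
    rw [not_subsingleton_iff_nontrivial] at hsub
    by_cases hp : ∃ p : ℕ, p.Prime ∧ IsPGroup p (L ≃ₐ[K] L)
    · -- `p`-group: extension along a central cyclic subgroup
      obtain ⟨p, hpp, hpG⟩ := hp
      have : Fact p.Prime := ⟨hpp⟩
      have hcen := hpG.center_nontrivial
      obtain ⟨⟨z, hz⟩, hz1⟩ := exists_ne (1 : Subgroup.center (L ≃ₐ[K] L))
      have hz1' : z ≠ 1 := fun h => hz1 (Subtype.ext h)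
      set C : Subgroup (L ≃ₐ[K] L) := Subgroup.zpowers z with hC
      have hCle : C ≤ Subgroup.center (L ≃ₐ[K] L) := Subgroup.zpowers_le.mpr hz
      have hCn : C.Normal := by
        constructor
        intro n hn g
        have := Subgroup.mem_center_iff.mp (hCle hn) g
        rw [this, mul_inv_cancel_right]
        exact hn
      have hCyc : IsCyclic (L ≃ₐ[fixedField C] L) :=
        isCyclic_of_surjective (subgroupEquivAlgEquiv C) (subgroupEquivAlgEquiv C).surjective
      have h1 : T (fixedField C) L := T_of_isCyclic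
      have hKM : Curves.IsCr (fixedField C) 1 := Groth.Agent.H95.CrExt.isCr_one_of_finite hK
      have hlt : Module.finrank K (fixedField C) < d := by
        have hmul := Module.finrank_mul_finrank K (fixedField C) L
        rw [hd, finrank_fixedField_eq_card] at hmul
        have hC2 : 2 ≤ Nat.card C := by
          have : Nontrivial C := ⟨⟨⟨z, Subgroup.mem_zpowers z⟩, 1, fun h => hz1' (congrArg Subtype.val h)⟩⟩
          exact Finite.one_lt_card
        have hpos : 0 < Module.finrank K (fixedField C) := Module.finrank_pos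
        nlinarith
      have h2 : T K (fixedField C) := ih _ hlt K (fixedField C) hK rfl
      exact T_of_normal C h1 h2 (norm_surjective_of_isCr_one hKM)
    · -- not a `p`-group: Sylow argument
      push Not at hp
      intro u hu
      have key : ∀ p : ℕ, p.Prime → ∃ m : ℕ, ¬ p ∣ m ∧ u ^ m ∈ IG K L := by
        intro p hpp
        have : Fact p.Prime := ⟨hpp⟩
        obtain ⟨P⟩ : Nonempty (Sylow p (L ≃ₐ[K] L)) := inferInstance
        have hPne : (P : Subgroup (L ≃ₐ[K] L)) ≠ ⊤ := by
          intro htop
          apply hp p hpp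
          have := P.isPGroup'
          rw [htop] at this
          exact IsPGroup.of_equiv this Subgroup.topEquiv
        have hlt : Module.finrank (fixedField (P : Subgroup (L ≃ₐ[K] L))) L < d := by
          rw [finrank_fixedField_eq_card, ← hcard]
          have hidx : (P : Subgroup (L ≃ₐ[K] L)).index ≠ 1 := by
            rwa [Ne, Subgroup.index_eq_one]
          have hmul := (P : Subgroup (L ≃ₐ[K] L)).card_mul_index
          have hpos : 0 < Nat.card (P : Subgroup (L ≃ₐ[K] L)) := Nat.card_pos
          have hipos : 0 < (P : Subgroup (L ≃ₐ[K] L)).index := Nat.pos_of_ne_zero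
            (Subgroup.index_ne_zero_of_finite)
          have : 2 ≤ (P : Subgroup (L ≃ₐ[K] L)).index := by omega
          nlinarith
        have hKM : Curves.IsCr (fixedField (P : Subgroup (L ≃ₐ[K] L))) 1 :=
          Groth.Agent.H95.CrExt.isCr_one_of_finite hK
        have hT := ih _ hlt (fixedField (P : Subgroup (L ≃ₐ[K] L))) L hKM rfl
        exact ⟨_, P.not_dvd_index, pow_index_mem_IG _ hT hu⟩
      -- the order of the class of `u` modulo `IG` is not divisible by any prime
      set ū : Lˣ ⧸ IG K L := QuotientGroup.mk u with hū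
      have hdvd : ∀ p : ℕ, p.Prime → ¬ p ∣ orderOf ū := by
        intro p hpp hdiv
        obtain ⟨m, hm, hmem⟩ := key p hpp
        apply hm
        apply hdiv.trans
        apply orderOf_dvd_of_pow_eq_one
        rw [hū, ← QuotientGroup.mk_pow, QuotientGroup.eq_one_iff]
        exact hmem
      have hone : orderOf ū = 1 := by
        by_contra hne
        obtain ⟨q, hq, hqd⟩ := Nat.exists_prime_and_dvd hne
        exact hdvd q hq hqd
      rw [orderOf_eq_one_iff, hū, QuotientGroup.eq_one_iff] at hone
      exact hone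

end Groth.Agent.H81.GalNorm
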